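import Cfsg.Agent.Lib.Lead.OG.Defs
import Cfsg.Agent.Lib.Helper80.AS.CEN

/-! Ladder OG (lead), rung CENO (helper56): port of AS/CEN `cen_adj`. -/

set_option autoImplicit false

namespace Cfsg.Agent.Lib.Lead.OG

open Cfsg Cfsg.Geo QuadraticMap
open Cfsg.Agent.Lib.Helper77.Asch (NormBy MinOver)
open Cfsg.Agent.Lib.Helper80.AS (env cen IsScal IsComm SelfAdj Projs tmat IsLeftFactor GramTensor cen_mem_iff)
open scoped MatrixGroups Matrix Kronecker

variable {ι : Type} [Fintype ι] [DecidableEq ι] {F : Type*} [Field F]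

/-- CENO (port of AS/CEN.lean `cen_adj`). -/
theorem cen_adj_sym (f : (ι → F) → (ι → F) → F) (hf : IsSymmetricForm f) (B : Subalgebra F (Matrix ι ι F))
    (hadj : IsAdjointClosedFor f B) : IsAdjointClosedFor f (cen B) := by
  intro z hz
  obtain ⟨hzB, hzc⟩ := (cen_mem_iff B z).1 hz
  obtain ⟨z', hz'B, hz'⟩ := hadj z hzB
  refine ⟨z', ?_, hz'⟩
  rw [cen_mem_iff]
  refine ⟨hz'B, fun y hy => ?_⟩
  obtain ⟨y', hy'B, hy'⟩ := hadj y hy
  -- `y` is the adjoint of `y'`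
  have hyy : ∀ u v, f (y' *ᵥ u) v = f u (y *ᵥ v) := by
    intro u v
    rw [hf.symm, ← hy', hf.symm]
  have hcomm := hzc y' hy'B
  -- compare
  have key : ∀ u v, f u ((y * z') *ᵥ v) = f u ((z' * y) *ᵥ v) := by
    intro u v
    have e1 : f ((z * y') *ᵥ u) v = f u ((y * z') *ᵥ v) := by
      rw [← Matrix.mulVec_mulVec, hz', hyy, Matrix.mulVec_mulVec]
    have e2 : f ((y' * z) *ᵥ u) v = f u ((z' * y) *ᵥ v) := by
      rw [← Matrix.mulVec_mulVec, hyy, hz', Matrix.mulVec_mulVec]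
    rw [← e1, ← e2, hcomm]
  have hv : ∀ v, (y * z') *ᵥ v = (z' * y) *ᵥ v := by
    intro v
    by_contra hne
    have hne' : (y * z') *ᵥ v - (z' * y) *ᵥ v ≠ 0 := sub_ne_zero.2 hne
    obtain ⟨⟨x, hx⟩, -⟩ := hf.nondegenerate _ hne'
    apply hx
    have h1 : f x ((y * z') *ᵥ v - (z' * y) *ᵥ v) + f x ((z' * y) *ᵥ v) = f x ((y * z') *ᵥ v) := by
      rw [← hf.bilinear.add_right, sub_add_cancel]
    rw [key] at h1
    exact add_eq_right.1 h1
  ext i j
  have := congrFun (hv (Pi.single j 1)) i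
  simpa using this

end Cfsg.Agent.Lib.Lead.OG
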