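import Cfsg.Agent.Lib.Lead.OG.Defs

set_option autoImplicit false

namespace Cfsg.Agent.Lib.Lead.OG

open Cfsg Cfsg.Geo QuadraticMap
open scoped MatrixGroups Matrix Kronecker

variable {ι : Type} [Fintype ι] [DecidableEq ι] {F : Type*} [Field F]

/-- GFS. -/
theorem gf_isSymplectic (h2 : (2 : F) ≠ 0) {s : ℕ} (J : Matrix (Fin s) (Fin s) F) (hJ : Jᵀ = -J) (hd : J.det ≠ 0) :
    IsSymplecticForm (gf J) := by
  have hskew : ∀ u v, gf J u v = - gf J v u := by
    intro u v
    unfold gf
    rw [Matrix.dotProduct_mulVec, ← Matrix.mulVec_transpose, hJ, Matrix.neg_mulVec, neg_dotProduct, dotProduct_comm]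
  have hnd : ∀ v : Fin s → F, v ≠ 0 → ∃ x, gf J x v ≠ 0 := by
    intro v hv
    by_contra hcon
    push Not at hcon
    apply hv
    have h0 : J *ᵥ v = 0 := by
      funext i
      have := hcon (Pi.single i 1)
      unfold gf at this
      rwa [single_dotProduct, one_mul] at this
    exact (Matrix.eq_zero_of_mulVec_eq_zero hd h0)
  refine ⟨⟨fun x y v => ?_, fun c x v => ?_, fun v x y => ?_, fun c v x => ?_⟩, hskew, fun v => ?_, fun v hv => ?_⟩
  · unfold gf; rw [add_dotProduct]
  · unfold gf; rw [smul_dotProduct, smul_eq_mul]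
  · unfold gf; rw [Matrix.mulVec_add, dotProduct_add]
  · unfold gf; rw [Matrix.mulVec_smul, dotProduct_smul, smul_eq_mul]
  · have h := hskew v v
    have h3 : 2 * gf J v v = 0 := by linear_combination h
    exact (mul_eq_zero.1 h3).resolve_left h2
  · obtain ⟨x, hx⟩ := hnd v hv
    exact ⟨⟨x, hx⟩, ⟨x, by rw [hskew]; exact neg_ne_zero.2 hx⟩⟩

end Cfsg.Agent.Lib.Lead.OG
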