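import Cfsg.Agent.Lib.Lead.OG.Defs
import Cfsg.Agent.Lib.Helper80.AS.ODDSA

set_option autoImplicit false
set_option linter.unusedSectionVars false

namespace Cfsg.Agent.Lib.Lead.OG

open Cfsg Cfsg.Geo QuadraticMap
open Cfsg.Agent.Lib.Helper77.Asch (NormBy MinOver)
open Cfsg.Agent.Lib.Helper80.AS (env cen IsScal IsComm SelfAdj Projs tmat IsLeftFactor GramTensor)
open Cfsg.Agent.Lib.Helper77.AschG (pt slot fp)
open scoped MatrixGroups Matrix Kronecker

variable {ι : Type} [Fintype ι] [DecidableEq ι] {F : Type*} [Field F]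

/-- right cancellation for a non-degenerate bilinear form, for matrices. -/
theorem oddso_uniq (f : (ι → F) → (ι → F) → F) (hf : IsSymmetricForm f) (x y : Matrix ι ι F)
    (h : ∀ u v, f u (x *ᵥ v) = f u (y *ᵥ v)) : x = y := by
  have hb := hf.bilinear
  apply Matrix.toLin'.injective
  apply LinearMap.ext
  intro v
  rw [Matrix.toLin'_apply, Matrix.toLin'_apply]
  by_contra hne
  obtain ⟨⟨u, hu⟩, -⟩ := hf.nondegenerate (x *ᵥ v - y *ᵥ v) (sub_ne_zero.2 hne)
  apply hu
  have h1 : f u (x *ᵥ v - y *ᵥ v) = f u (x *ᵥ v) + (-1) * f u (y *ᵥ v) := by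
    rw [sub_eq_add_neg, hb.add_right, ← hb.smul_right, neg_one_smul]
  rw [h1, h u v]; ring

/-- ODDSO. -/
theorem selfAdj_of_odd_sym [Fintype F] (f : (ι → F) → (ι → F) → F) (hf : IsSymmetricForm f)
    (K : Subalgebra F (Matrix ι ι F)) (r : ℕ) (hK : IsFieldSubalgebra r K) (hr : Odd r)
    (hadj : IsAdjointClosedFor f K) : IsSelfAdjointFor f K := by
  have hb := hf.bilinear
  rcases isEmpty_or_nonempty ι with hι | hι
  · intro k _ u v
    rw [Subsingleton.elim (k *ᵥ u) u, Subsingleton.elim (k *ᵥ v) v]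
  have hfld : IsField K :=
    { exists_pair_ne := ⟨0, 1, fun h => by
        have h1 : (0 : Matrix ι ι F) = 1 := congrArg Subtype.val h
        exact zero_ne_one h1⟩
      mul_comm := fun x y => Subtype.ext (hK.comm x.1 x.2 y.1 y.2)
      mul_inv_cancel := fun {x} hx => by
        obtain ⟨y, hy, hxy⟩ := hK.inv x.1 x.2 (fun h => hx (Subtype.ext h))
        exact ⟨⟨y, hy⟩, Subtype.ext hxy⟩ }
  choose! a ha1 ha2 using hadj
  have hadd : ∀ x ∈ K, ∀ y ∈ K, a (x + y) = a x + a y := by
    intro x hx y hy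
    apply oddso_uniq f hf
    intro u v
    rw [← ha2 _ (K.add_mem hx hy), Matrix.add_mulVec, Matrix.add_mulVec, hb.add_left,
      hb.add_right, ha2 x hx, ha2 y hy]
  have hmul : ∀ x ∈ K, ∀ y ∈ K, a (x * y) = a x * a y := by
    intro x hx y hy
    apply oddso_uniq f hf
    intro u v
    rw [← ha2 _ (K.mul_mem hx hy), hK.comm _ (ha1 x hx) _ (ha1 y hy), ← Matrix.mulVec_mulVec,
      ← Matrix.mulVec_mulVec, ha2 x hx, ha2 y hy]
  have hsc : ∀ c : F, a (algebraMap F (Matrix ι ι F) c) = algebraMap F (Matrix ι ι F) c := by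
    intro c
    apply oddso_uniq f hf
    intro u v
    rw [← ha2 _ (K.algebraMap_mem c), Algebra.algebraMap_eq_smul_one, Matrix.smul_mulVec,
      Matrix.smul_mulVec, Matrix.one_mulVec, Matrix.one_mulVec, hb.smul_left, hb.smul_right]
  have hinv : ∀ x ∈ K, a (a x) = x := by
    intro x hx
    apply oddso_uniq f hf
    intro u v
    rw [← ha2 _ (ha1 x hx), hf.symm, ← ha2 x hx, hf.symm]
  let α : K →ₐ[F] K :=
    { toFun := fun x => ⟨a x, ha1 x x.2⟩
      map_one' := by
        apply Subtype.ext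
        have := hsc 1
        rw [map_one] at this
        exact this
      map_mul' := fun x y => Subtype.ext (hmul x x.2 y y.2)
      map_zero' := by
        apply Subtype.ext
        have := hsc 0
        rw [map_zero] at this
        exact this
      map_add' := fun x y => Subtype.ext (hadd x x.2 y y.2)
      commutes' := fun c => Subtype.ext (hsc c) }
  have hfin : Finite K := inferInstance
  have key := @Cfsg.Agent.Lib.Helper80.AS.oddsa_aux F K _ hfld.toField hfin K.algebra α
    (fun x => Subtype.ext (hinv x x.2)) (by rw [hK.finrank_eq]; exact hr)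
  intro k hk u v
  have h1 : a k = k := congrArg Subtype.val (key ⟨k, hk⟩)
  rw [ha2 k hk, h1]

end Cfsg.Agent.Lib.Lead.OG
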