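import Cfsg.Agent.Lib.Lead.OG.Defs
import Cfsg.Agent.Lib.Lead.OG.GF

set_option autoImplicit false

namespace Cfsg.Agent.Lib.Lead.OG

open Cfsg Cfsg.Geo QuadraticMap
open scoped MatrixGroups Matrix Kronecker

variable {ι : Type} [Fintype ι] [DecidableEq ι] {F : Type*} [Field F]

/-- PSO.  (`[Nonempty ι]` is needed: for `ι` empty, `s = 0`, `t = 2` the statement without it fails.) -/
theorem power_sp_odd [Nonempty ι] (h2 : (2 : F) ≠ 0) (f : (ι → F) → (ι → F) → F) (hf : IsSymplecticForm f) {s t : ℕ}
    (e : ι ≃ (Fin t → Fin s)) (P : GL ι F) (J : Matrix (Fin s) (Fin s) F) (hd : J.det ≠ 0)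
    (hJ : Jᵀ = J ∨ Jᵀ = -J) (hst : IsTensorPowerFormStructure id f (gf J) e P) : Jᵀ = -J ∧ Odd t := by
  classical
  obtain ⟨c, hc, hst⟩ := hst
  rw [gramMatrix_gf] at hst
  have hsingle : ∀ a b : Fin t → Fin s,
      f ((P : Matrix ι ι F) *ᵥ ((Pi.single a 1 : (Fin t → Fin s) → F) ∘ e))
        ((P : Matrix ι ι F) *ᵥ ((Pi.single b 1 : (Fin t → Fin s) → F) ∘ e)) = c * ∏ i, J (a i) (b i) := by
    intro a b
    rw [hst]
    congr 1
    rw [Finset.sum_eq_single a, Finset.sum_eq_single b]
    · simp
    · intro b' _ hb'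
      simp [Pi.single_apply, hb']
    · intro h; exact absurd (Finset.mem_univ b) h
    · intro a' _ ha'
      apply Finset.sum_eq_zero
      intro b' _
      simp [Pi.single_apply, ha']
    · intro h; exact absurd (Finset.mem_univ a) h
  have hprod : ∀ a b : Fin t → Fin s, ∏ i, J (a i) (b i) = - ∏ i, J (b i) (a i) := by
    intro a b
    have h := hf.skew ((P : Matrix ι ι F) *ᵥ ((Pi.single a 1 : (Fin t → Fin s) → F) ∘ e))
      ((P : Matrix ι ι F) *ᵥ ((Pi.single b 1 : (Fin t → Fin s) → F) ∘ e))
    rw [hsingle, hsingle, ← mul_neg] at h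
    exact mul_left_cancel₀ hc h
  obtain ⟨p, r, hpr⟩ : ∃ p r, J p r ≠ 0 := by
    by_contra hcon
    push Not at hcon
    apply hd
    have : J = 0 := by ext p r; exact hcon p r
    rw [this]
    have hs : Nonempty (Fin s) := by
      by_contra hne
      rw [not_nonempty_iff] at hne
      set a₀ : Fin t → Fin s := e (Classical.arbitrary ι) with ha₀
      have h1 := hprod a₀ a₀
      have ht : IsEmpty (Fin t) := ⟨fun i => hne.false (a₀ i)⟩
      rw [Finset.prod_of_isEmpty] at h1
      have h3 : (2 : F) = 0 := by linear_combination h1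
      exact h2 h3
    exact Matrix.det_zero
  have hpow := hprod (fun _ => p) (fun _ => r)
  simp only [Finset.prod_const, Finset.card_univ, Fintype.card_fin] at hpow
  have hne : (J p r) ^ t ≠ 0 := pow_ne_zero _ hpr
  have hskew : Jᵀ = -J := by
    rcases hJ with h | h
    · exfalso
      have e1 : J r p = J p r := by
        have := congrFun (congrFun h p) r
        rwa [Matrix.transpose_apply] at this
      rw [e1] at hpow
      have h3 : 2 * (J p r) ^ t = 0 := by linear_combination hpow
      exact hne ((mul_eq_zero.1 h3).resolve_left h2)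
    · exact h
  refine ⟨hskew, ?_⟩
  by_contra hodd
  rw [Nat.not_odd_iff_even] at hodd
  have e1 : J r p = - J p r := by
    have := congrFun (congrFun hskew p) r
    rwa [Matrix.transpose_apply, Matrix.neg_apply] at this
  rw [e1, hodd.neg_pow] at hpow
  have h3 : 2 * (J p r) ^ t = 0 := by linear_combination hpow
  exact hne ((mul_eq_zero.1 h3).resolve_left h2)

end Cfsg.Agent.Lib.Lead.OG
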